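import Mathlib
import Groth.Prelude.Def_Frob
import Groth.Prelude.Def_Flat
import Groth.Prelude.Def_W4c3convisocdirimgFrobIter
import Groth.Agent.UnivHomeo.Basic
/-!
The absolute and relative Frobenius are universal homeomorphisms.
-/

set_option autoImplicit false
set_option backward.isDefEq.respectTransparency false
set_option backward.isDefEq.respectTransparency.types false
set_option linter.unusedSectionVars false

universe u

open CategoryTheory CategoryTheory.Limits AlgebraicGeometry

namespace Groth.Agent.FrobSchLib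

variable (p : ℕ) [hp : Fact p.Prime] {X S : Scheme.{u}} [FrobSch.IsCharP S p]

theorem isIntegralHom_frob : IsIntegralHom (FrobSch.frob S p) := by
  haveI : IsAffineHom (FrobSch.frob S p) := ⟨fun U hU => hU⟩
  refine ⟨fun U hU => ?_⟩
  letI := ((FrobSch.frob S p).app U).hom.toAlgebra
  intro s
  change IsIntegral Γ(S, U) s
  refine IsIntegral.of_pow hp.out.pos ?_
  exact isIntegral_algebraMap (R := Γ(S, U)) (x := s)

theorem surjective_frob : Surjective (FrobSch.frob S p) := ⟨fun x => ⟨x, rfl⟩⟩

theorem residueFieldMap_frob_pow (x : S) (z : S.residueField x) :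
    ∃ y, (FrobSch.frob S p).residueFieldMap x y = z ^ p := by
  obtain ⟨t, rfl⟩ := S.residue_surjective x z
  obtain ⟨U, hxU, s, rfl⟩ := S.presheaf.exists_germ_eq (x := x) t
  refine ⟨S.residue _ (S.presheaf.germ U (FrobSch.frob S p x) hxU s), ?_⟩
  have h1 := congrArg (fun g => g.hom (S.presheaf.germ U (FrobSch.frob S p x) hxU s))
    (Scheme.residue_residueFieldMap (FrobSch.frob S p) x)
  refine h1.trans ?_
  change S.residue x ((FrobSch.frob S p).stalkMap x (S.presheaf.germ U _ hxU s)) = _
  erw [Scheme.Hom.germ_stalkMap_apply]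
  change S.residue x (S.presheaf.germ U x hxU (s ^ p)) = _
  rw [map_pow, map_pow]

theorem charP_residueField (x : S) : CharP (S.residueField x) p := by
  refine (CharP.charP_iff_prime_eq_zero hp.out).2 ?_
  have := congrArg (fun t => S.Γevaluation x t) (FrobSch.IsCharP.natCast_eq_zero (X := S) (p := p))
  simpa using this

theorem ui_iff {A B : Scheme.{u}} (g : A ⟶ B) :
    UniversallyInjective g ↔ ∀ (K : Type u) [Field K], Function.Injective fun a : Spec (.of K) ⟶ A => a ≫ g :=
  (tfae_universallyInjective g).out 0 1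

theorem ui_iff' {A B : Scheme.{u}} (g : A ⟶ B) :
    UniversallyInjective g ↔ Function.Injective g ∧ ∀ x, (g.residueFieldMap x).hom.IsPurelyInseparable :=
  (tfae_universallyInjective g).out 0 2

theorem universallyInjective_frob : UniversallyInjective (FrobSch.frob S p) := by
  refine (ui_iff' _).2 ⟨fun a b h => h, fun x => ?_⟩
  letI := ((FrobSch.frob S p).residueFieldMap x).hom.toAlgebra
  haveI := charP_residueField (S := S) p (FrobSch.frob S p x)
  haveI : ExpChar (S.residueField (FrobSch.frob S p x)) p := ExpChar.prime hp.out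
  refine (isPurelyInseparable_iff_pow_mem (S.residueField (FrobSch.frob S p x)) p).2 fun z => ?_
  obtain ⟨y, hy⟩ := residueFieldMap_frob_pow p x z
  exact ⟨1, y, hy.trans (by rw [pow_one])⟩

variable (f : X ⟶ S)

theorem isIntegralHom_relFrob : IsIntegralHom (FrobSch.relFrob f p) := by
  haveI : FrobSch.IsCharP X p := FrobSch.IsCharP.of_hom f p
  haveI := isIntegralHom_frob (S := S) p
  haveI : IsIntegralHom (FrobSch.relFrob f p ≫ pullback.fst f (FrobSch.frob S p)) := by
    rw [FrobSch.relFrob_fst]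
    exact isIntegralHom_frob p
  exact IsIntegralHom.of_comp _ (pullback.fst f (FrobSch.frob S p))

theorem isFinite_relFrob [LocallyOfFiniteType f] : IsFinite (FrobSch.relFrob f p) := by
  refine (IsFinite.iff_isIntegralHom_and_locallyOfFiniteType _).2 ⟨isIntegralHom_relFrob p f, ?_⟩
  haveI : LocallyOfFiniteType (FrobSch.relFrob f p ≫ pullback.snd f (FrobSch.frob S p)) := by
    rw [FrobSch.relFrob_snd]; infer_instance
  exact locallyOfFiniteType_of_comp _ (pullback.snd f (FrobSch.frob S p))

theorem universallyInjective_relFrob : UniversallyInjective (FrobSch.relFrob f p) := by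
  haveI : FrobSch.IsCharP X p := FrobSch.IsCharP.of_hom f p
  refine (ui_iff _).2 fun K _ g g' hg => ?_
  have h : Function.Injective fun g : Spec (.of K) ⟶ X => g ≫ FrobSch.frob X p :=
    (ui_iff _).1 (universallyInjective_frob p) K
  apply h
  change g ≫ FrobSch.frob X p = g' ≫ FrobSch.frob X p
  rw [← FrobSch.relFrob_fst f p, reassoc_of% hg]

theorem surjective_relFrob : Surjective (FrobSch.relFrob f p) := by
  haveI : FrobSch.IsCharP X p := FrobSch.IsCharP.of_hom f p
  haveI := universallyInjective_frob (S := S) p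
  haveI : UniversallyInjective (pullback.fst f (FrobSch.frob S p)) :=
    MorphismProperty.pullback_fst _ _ inferInstance
  refine ⟨fun z => ⟨(pullback.fst f (FrobSch.frob S p)) z, (pullback.fst f (FrobSch.frob S p)).injective ?_⟩⟩
  rw [← Scheme.Hom.comp_apply, FrobSch.relFrob_fst]
  rfl

theorem isUnivHomeo_relFrob : FlatMor.IsUnivHomeo (FrobSch.relFrob f p) := by
  haveI := isIntegralHom_relFrob p f
  haveI := universallyInjective_relFrob p f
  haveI := surjective_relFrob p f
  exact Groth.Agent.UnivHomeo.of_isIntegralHom _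

theorem residueFieldMap_relFrob (x : X) : ((FrobSch.relFrob f p).residueFieldMap x).hom.IsPurelyInseparable :=
  ((ui_iff' _).1 (universallyInjective_relFrob p f)).2 x

/-- Composing with the absolute Frobenius of a reduced scheme is injective. -/
theorem frob_cancel [FrobSch.IsCharP X p] [IsReduced X] {Z : Scheme.{u}} {g₁ g₂ : X ⟶ Z}
    (h : FrobSch.frob X p ≫ g₁ = FrobSch.frob X p ≫ g₂) : g₁ = g₂ := by
  have hb : g₁.base = g₂.base := by
    have := congrArg (fun k : X ⟶ Z => k.base) h
    simpa using this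
  refine (Scheme.Hom.ext hb.symm fun U => ?_).symm
  ext t
  have h1 := Scheme.Hom.congr_app h U
  have h2 := congrArg (fun k => k.hom t) h1
  change (g₁.app U t) ^ p = X.presheaf.map _ ((g₂.app U t) ^ p) at h2
  rw [map_pow] at h2
  have h3 : IsNilpotent (g₁.app U t - X.presheaf.map (eqToHom (TopologicalSpace.Opens.ext (by change g₁.base ⁻¹' _ = g₂.base ⁻¹' _; rw [hb]))).op (g₂.app U t)) := by
    refine ⟨p, ?_⟩
    rcases subsingleton_or_nontrivial Γ(X, g₁ ⁻¹ᵁ U) with hs | hs
    · exact Subsingleton.elim _ _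
    · haveI : CharP Γ(X, g₁ ⁻¹ᵁ U) p :=
        (CharP.charP_iff_prime_eq_zero hp.out).2 (FrobSch.natCast_eq_zero_app X p _)
      rw [sub_pow_char, sub_eq_zero]
      exact h2
  exact (sub_eq_zero.1 h3.eq_zero).symm

theorem eq_of_relFrob {Y Z : Scheme.{u}} [IsReduced Y] (a : Y ⟶ S) (b : Z ⟶ S) (g₁ g₂ : Y ⟶ Z)
    (hg₁ : g₁ ≫ b = a) (hg₂ : g₂ ≫ b = a)
    (h : FrobSch.relFrob a p ≫ pullback.map a (FrobSch.frob S p) b (FrobSch.frob S p) g₁ (𝟙 S) (𝟙 S)
        ((Category.comp_id a).trans hg₁.symm) ((Category.comp_id _).trans (Category.id_comp _).symm) =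
      FrobSch.relFrob a p ≫ pullback.map a (FrobSch.frob S p) b (FrobSch.frob S p) g₂ (𝟙 S) (𝟙 S)
        ((Category.comp_id a).trans hg₂.symm) ((Category.comp_id _).trans (Category.id_comp _).symm)) :
    g₁ = g₂ := by
  haveI : FrobSch.IsCharP Y p := FrobSch.IsCharP.of_hom a p
  refine frob_cancel p ?_
  have := congrArg (fun k => k ≫ pullback.fst b (FrobSch.frob S p)) h
  simpa [FrobSch.relFrob_fst_assoc] using this

theorem frobIter_succ' [FrobSch.IsCharP X p] (n : ℕ) :
    FrobSch.frobIter X p (n + 1) = FrobSch.frobIter X p n ≫ FrobSch.frob X p := by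
  rw [FrobSch.frobIter_succ]
  exact FrobSch.frob_comp p (FrobSch.frobIter X p n)

theorem exists_frobTwist_lift {T k : Scheme.{u}} [FrobSch.IsCharP k p] [FrobSch.IsCharP T p] (n : ℕ)
    (t : T ⟶ k) (x : X ⟶ k) {T₀ : Scheme.{u}} (ι₀ : T₀ ⟶ T)
    (i : T₀ ⟶ (FrobSch.frobIter T p (n + 1)).ker.subscheme)
    (hi : i ≫ (FrobSch.frobIter T p (n + 1)).ker.subschemeι = ι₀)
    (j : T₀ ⟶ (FrobSch.frobIter T p n).ker.subscheme)
    (hj : j ≫ (FrobSch.frobIter T p n).ker.subschemeι = ι₀)
    (w : (FrobSch.frobIter T p (n + 1)).ker.subscheme ⟶ X)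
    (hw : w ≫ x = (FrobSch.frobIter T p (n + 1)).ker.subschemeι ≫ t) :
    ∃ v : (FrobSch.frobIter T p n).ker.subscheme ⟶ FrobSch.frobTwist x p,
      v ≫ pullback.snd x (FrobSch.frob k p) = (FrobSch.frobIter T p n).ker.subschemeι ≫ t ∧
        j ≫ v = i ≫ w ≫ FrobSch.relFrob x p := by
  let ι := (FrobSch.frobIter T p n).ker.subschemeι
  let ι' := (FrobSch.frobIter T p (n + 1)).ker.subschemeι
  have hle : ι'.ker ≤ (ι ≫ FrobSch.frob T p).ker := by
    rw [← Scheme.IdealSheafData.map_ker ι, Scheme.IdealSheafData.ker_subschemeι,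
      Scheme.IdealSheafData.ker_subschemeι, Scheme.IdealSheafData.map_ker, ← frobIter_succ']
  let u := IsClosedImmersion.lift ι' (ι ≫ FrobSch.frob T p) hle
  have hu : u ≫ ι' = ι ≫ FrobSch.frob T p := IsClosedImmersion.lift_fac _ _ _
  let v : (FrobSch.frobIter T p n).ker.subscheme ⟶ FrobSch.frobTwist x p :=
    pullback.lift (u ≫ w) (ι ≫ t) (by
      rw [Category.assoc, hw, reassoc_of% hu, FrobSch.frob_comp p t, Category.assoc])
  haveI : FrobSch.IsCharP X p := FrobSch.IsCharP.of_hom x p
  haveI : FrobSch.IsCharP T₀ p := FrobSch.IsCharP.of_hom ι₀ p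
  haveI : FrobSch.IsCharP (FrobSch.frobIter T p (n + 1)).ker.subscheme p := FrobSch.IsCharP.of_hom ι' p
  refine ⟨v, pullback.lift_snd _ _ _, ?_⟩
  have hju : j ≫ u = FrobSch.frob T₀ p ≫ i := by
    rw [← cancel_mono ι', Category.assoc, Category.assoc, hu, reassoc_of% hj, hi, FrobSch.frob_comp p ι₀]
  apply pullback.hom_ext
  · simp only [v, Category.assoc, pullback.lift_fst, FrobSch.relFrob_fst]
    rw [reassoc_of% hju, ← Category.assoc i w, ← FrobSch.frob_comp p (i ≫ w)]
  · simp only [v, Category.assoc, pullback.lift_snd, FrobSch.relFrob_snd]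
    rw [hw, reassoc_of% hj, reassoc_of% hi]

end Groth.Agent.FrobSchLib
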