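import Groth.Agent.FrobSchLib.Basic
import Groth.Prelude.Def_Omega3

/-!
A derivation relative to `f` kills every section coming from the Frobenius twist.
-/

set_option autoImplicit false
set_option backward.isDefEq.respectTransparency false
set_option backward.isDefEq.respectTransparency.types false
set_option linter.unusedSectionVars false

universe u

open CategoryTheory CategoryTheory.Limits AlgebraicGeometry TopologicalSpace Opposite

namespace Groth.Agent.FrobSchLib

theorem subring_eq_top_of_isPushout {A B C P : CommRingCat.{u}} {f : A ⟶ B} {g : A ⟶ C} {inl : B ⟶ P} {inr : C ⟶ P}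
    (sq : IsPushout f g inl inr) (K : Subring P) (hl : ∀ b, inl b ∈ K) (hr : ∀ c, inr c ∈ K) (t : P) : t ∈ K := by
  let l : B ⟶ CommRingCat.of K := CommRingCat.ofHom (inl.hom.codRestrict K hl)
  let r : C ⟶ CommRingCat.of K := CommRingCat.ofHom (inr.hom.codRestrict K hr)
  let h : P ⟶ CommRingCat.of K := sq.desc l r (CommRingCat.hom_ext (RingHom.ext fun a =>
    Subtype.ext (congrArg (fun k => k.hom a) sq.w)))
  have e : h ≫ CommRingCat.ofHom K.subtype = 𝟙 P := by
    refine sq.hom_ext ?_ ?_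
    · rw [← Category.assoc, sq.inl_desc, Category.comp_id]; rfl
    · rw [← Category.assoc, sq.inr_desc, Category.comp_id]; rfl
  have e' : ((h t : K) : P) = t := congrArg (fun k => k.hom t) e
  exact e' ▸ (h t).2

theorem map_pow_eq_zero {p : ℕ} {R M : Type*} [CommRing R] [AddCommGroup M] [Module R M] (D : R →+ M)
    (hD : ∀ a b, D (a * b) = a • D b + b • D a) (hp : (p : R) = 0) (a : R) : D (a ^ p) = 0 := by
  have h1 : D 1 = 0 := by simpa using hD 1 1
  have key : ∀ n : ℕ, D (a ^ (n + 1)) = (((n + 1 : ℕ) : R) * a ^ n) • D a := fun n => by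
    induction n with
    | zero => simp
    | succ n ih =>
      rw [pow_succ' a (n + 1), hD, ih, smul_smul, ← add_smul]
      congr 1
      push_cast
      ring
  cases p with
  | zero => rw [pow_zero, h1]
  | succ n => rw [key, hp, zero_mul, zero_smul]

variable (p : ℕ) [hp : Fact p.Prime] {X S : Scheme.{u}} [FrobSch.IsCharP S p] {f : X ⟶ S} {Ω : X.Modules}
  (d : OmegaSh.Der f Ω)

theorem der_mul (U : X.Opens) (a b : Γ(X, U)) : d.app U (a * b) = a • d.app U b + b • d.app U a :=
  d.d_mul a b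

theorem der_map {U V : X.Opens} (e : V ≤ U) (a : Γ(X, U)) :
    d.app V (X.presheaf.map (homOfLE e).op a) = Ω.presheaf.map (homOfLE e).op (d.app U a) :=
  d.d_map (homOfLE e).op a

theorem der_one (U : X.Opens) : d.app U 1 = 0 := d.d_one (op U)

theorem der_appLE (V : S.Opens) (U : X.Opens) (e : U ≤ f ⁻¹ᵁ V) (c : Γ(S, V)) :
    d.app U (f.appLE V U e c) = 0 := by
  change d.app U (X.presheaf.map (homOfLE e).op (f.app V c)) = 0
  rw [der_map, show d.app (f ⁻¹ᵁ V) (f.app V c) = 0 from d.d_app (X := op V) c, map_zero]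

/-- Killed sections of an open of the twist. -/
def killed (O : X.Opens) {Z : Scheme.{u}} (W : Z.Opens) (g : X ⟶ Z) (e : O ≤ g ⁻¹ᵁ W) : Subring Γ(Z, W) where
  carrier := {t | d.app O (g.appLE W O e t) = 0}
  one_mem' := by
    show d.app O (g.appLE W O e 1) = 0
    rw [map_one, der_one]
  zero_mem' := by
    show d.app O (g.appLE W O e 0) = 0
    rw [map_zero, map_zero]
  mul_mem' {a b} ha hb := by
    show d.app O (g.appLE W O e (a * b)) = 0
    rw [map_mul, der_mul, show d.app O (g.appLE W O e a) = 0 from ha, show d.app O (g.appLE W O e b) = 0 from hb,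
      smul_zero, smul_zero, add_zero]
  add_mem' {a b} ha hb := by
    show d.app O (g.appLE W O e (a + b)) = 0
    rw [map_add, map_add, show d.app O (g.appLE W O e a) = 0 from ha, show d.app O (g.appLE W O e b) = 0 from hb, add_zero]
  neg_mem' {a} ha := by
    show d.app O (g.appLE W O e (-a)) = 0
    rw [map_neg, map_neg, show d.app O (g.appLE W O e a) = 0 from ha, neg_zero]

theorem mem_killed_affine {U : X.Opens} (hU : IsAffineOpen U) {V : S.Opens} (hV : IsAffineOpen V) (hUV : U ≤ f ⁻¹ᵁ V)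
    (e : U ≤ FrobSch.relFrob f p ⁻¹ᵁ (pullback.fst f (FrobSch.frob S p) ⁻¹ᵁ U ⊓ pullback.snd f (FrobSch.frob S p) ⁻¹ᵁ V))
    (t : Γ(FrobSch.frobTwist f p, pullback.fst f (FrobSch.frob S p) ⁻¹ᵁ U ⊓ pullback.snd f (FrobSch.frob S p) ⁻¹ᵁ V)) :
    t ∈ killed d U _ (FrobSch.relFrob f p) e := by
  haveI : FrobSch.IsCharP X p := FrobSch.IsCharP.of_hom f p
  have H := IsPullback.of_hasPullback f (FrobSch.frob S p)
  have sq := (isIso_pushoutSection_iff H (US := V) (UT := V) (UX := U) le_rfl hUV rfl).1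
    (isIso_pushoutSection_of_isAffineOpen H le_rfl hUV rfl hV hV hU)
  refine subring_eq_top_of_isPushout sq _ (fun b => ?_) (fun c => ?_) t
  · show d.app U (((pullback.fst f (FrobSch.frob S p)).appLE U _ _ ≫ (FrobSch.relFrob f p).appLE _ U e) b) = 0
    have key : ∀ (g : X ⟶ X) (_ : g = FrobSch.frob X p) (e' : U ≤ g ⁻¹ᵁ U), d.app U (g.appLE U U e' b) = 0 := by
      rintro g rfl e'
      change d.app U (X.presheaf.map (homOfLE (le_refl U)).op (b ^ p)) = 0
      rw [der_map, map_pow_eq_zero (d.app U) (der_mul d U) (FrobSch.natCast_eq_zero_app X p U), map_zero]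
    rw [Scheme.Hom.appLE_comp_appLE]
    exact key _ (FrobSch.relFrob_fst f p) _
  · show d.app U (((pullback.snd f (FrobSch.frob S p)).appLE V _ _ ≫ (FrobSch.relFrob f p).appLE _ U e) c) = 0
    have key : ∀ (g : X ⟶ S) (_ : g = f) (e' : U ≤ g ⁻¹ᵁ V), d.app U (g.appLE V U e' c) = 0 := by
      rintro g rfl e'
      exact der_appLE d V U e' c
    rw [Scheme.Hom.appLE_comp_appLE]
    exact key _ (FrobSch.relFrob_snd f p) _

theorem der_relFrob (W : (FrobSch.frobTwist f p).Opens) (t : Γ(FrobSch.frobTwist f p, W)) :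
    d.app (FrobSch.relFrob f p ⁻¹ᵁ W) ((FrobSch.relFrob f p).app W t) = 0 := by
  haveI : FrobSch.IsCharP X p := FrobSch.IsCharP.of_hom f p
  let F := FrobSch.relFrob f p
  let pr₁ := pullback.fst f (FrobSch.frob S p)
  let pr₂ := pullback.snd f (FrobSch.frob S p)
  have h₁ : ∀ y, pr₁ (F y) = y := fun y => by
    rw [← Scheme.Hom.comp_apply, FrobSch.relFrob_fst, FrobSch.frob_apply]
  have h₂ : ∀ y, pr₂ (F y) = f y := fun y => by
    rw [← Scheme.Hom.comp_apply, FrobSch.relFrob_snd]
  have key : ∀ x : ↥(F ⁻¹ᵁ W), ∃ (O : X.Opens) (hO : O ≤ F ⁻¹ᵁ W), x.1 ∈ O ∧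
      Ω.presheaf.map (homOfLE hO).op (d.app (F ⁻¹ᵁ W) (F.app W t)) = 0 := by
    rintro ⟨x, hx⟩
    obtain ⟨V, hV, hxV, -⟩ := exists_isAffineOpen_mem_and_subset (x := f x) (U := ⊤) trivial
    obtain ⟨U, hU, hxU, hUV⟩ := exists_isAffineOpen_mem_and_subset (x := x) (U := f ⁻¹ᵁ V) hxV
    let P : (FrobSch.frobTwist f p).Opens := pr₁ ⁻¹ᵁ U ⊓ pr₂ ⁻¹ᵁ V
    have hP : IsAffineOpen P := by
      have H := IsPullback.of_hasPullback f (FrobSch.frob S p)
      haveI : IsAffine U.toScheme := hU
      haveI : IsAffine V.toScheme := hV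
      exact .of_isIso (Scheme.Hom.isPullback_resLE H (US := V) (UT := V) (UX := U) le_rfl hUV rfl).isoPullback.hom
    have eU : U ≤ F ⁻¹ᵁ P := fun y hy => ⟨show pr₁ (F y) ∈ U by rw [h₁]; exact hy,
      show pr₂ (F y) ∈ V by rw [h₂]; exact hUV hy⟩
    have eP : ∀ y, F y ∈ P → y ∈ U := fun y hy => h₁ y ▸ hy.1
    obtain ⟨h, hhW, hxh⟩ := hP.exists_basicOpen_le (V := W) ⟨F x, hx⟩ (eU hxU)
    let D := (FrobSch.frobTwist f p).basicOpen h
    haveI := hP.isLocalization_basicOpen h
    obtain ⟨⟨a, s⟩, hs⟩ := IsLocalization.surj (M := Submonoid.powers h)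
      ((FrobSch.frobTwist f p).presheaf.map (homOfLE hhW).op t)
    let O : X.Opens := F ⁻¹ᵁ D
    have hOU : O ≤ U := fun y hy => eP y ((FrobSch.frobTwist f p).basicOpen_le h hy)
    refine ⟨O, fun y hy => hhW hy, hxh, ?_⟩
    have kill : ∀ b : Γ(FrobSch.frobTwist f p, P),
        d.app O (F.app D (algebraMap Γ(FrobSch.frobTwist f p, P) Γ(FrobSch.frobTwist f p, D) b)) = 0 := fun b => by
      change d.app O (F.app D ((FrobSch.frobTwist f p).presheaf.map (homOfLE ((FrobSch.frobTwist f p).basicOpen_le h)).op b)) = 0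
      have e1 : F.app D ((FrobSch.frobTwist f p).presheaf.map (homOfLE ((FrobSch.frobTwist f p).basicOpen_le h)).op b) =
          X.presheaf.map (homOfLE hOU).op (F.appLE P U eU b) := by
        rw [Scheme.Hom.app_eq_appLE, ← ConcreteCategory.comp_apply, Scheme.Hom.map_appLE,
          ← ConcreteCategory.comp_apply, Scheme.Hom.appLE_map]
      rw [e1, der_map, show d.app U (F.appLE P U eU b) = 0 from mem_killed_affine p d hU hV hUV eU b, map_zero]
    have hunit : IsUnit (F.app D (algebraMap Γ(FrobSch.frobTwist f p, P) Γ(FrobSch.frobTwist f p, D) s.1)) :=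
      (IsLocalization.map_units Γ(FrobSch.frobTwist f p, D) s).map _
    have e2 : X.presheaf.map (homOfLE (show O ≤ F ⁻¹ᵁ W from fun y hy => hhW hy)).op (F.app W t) =
        F.app D ((FrobSch.frobTwist f p).presheaf.map (homOfLE hhW).op t) :=
      (congrArg (fun k => k.hom t) (F.naturality (homOfLE hhW).op)).symm
    rw [← der_map, e2]
    have e3 := congrArg (fun z => d.app O (F.app D z)) hs
    simp only [map_mul] at e3
    rw [kill, der_mul, kill, smul_zero, zero_add] at e3
    obtain ⟨v, hv⟩ := hunit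
    rw [← hv] at e3
    have := congrArg (fun z => (↑v⁻¹ : Γ(X, O)) • z) e3
    simp only [smul_smul, Units.inv_mul, one_smul, smul_zero] at this
    exact this
  choose O hO hxO hzero using key
  refine TopCat.Sheaf.eq_of_locally_eq' (F := ⟨Ω.presheaf, Ω.isSheaf⟩) O (F ⁻¹ᵁ W) (fun x => homOfLE (hO x))
    (fun y hy => Opens.mem_iSup.2 ⟨⟨y, hy⟩, hxO _⟩) _ _ fun x => ?_
  exact (hzero x).trans (map_zero _).symm

/-- `d` as a derivation relative to the relative Frobenius. -/
noncomputable def derRel : OmegaSh.Der (FrobSch.relFrob f p) Ω where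
  d := d.d
  d_mul := d.d_mul
  d_map := d.d_map
  d_app {W} t := der_relFrob p d W.unop t

/-- A derivation relative to the relative Frobenius is a derivation relative to `f`. -/
noncomputable def derBase {F : X.Modules} (D : OmegaSh.Der (FrobSch.relFrob f p) F) : OmegaSh.Der f F where
  d := D.d
  d_mul := D.d_mul
  d_map := D.d_map
  d_app {V} a := by
    have key : ∀ (g : X ⟶ S) (_ : g = FrobSch.relFrob f p ≫ pullback.snd f (FrobSch.frob S p)),
        D.app (g ⁻¹ᵁ V.unop) (g.app V.unop a) = 0 := by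
      rintro g rfl
      exact D.d_app (X := op (pullback.snd f (FrobSch.frob S p) ⁻¹ᵁ V.unop)) _
    exact key f (FrobSch.relFrob_snd f p).symm

theorem isUniversal_derRel (hd : OmegaSh.IsUniversal d) : OmegaSh.IsUniversal (derRel p d) := by
  intro F D
  obtain ⟨α, hα, huniq⟩ := hd F (derBase p D)
  refine ⟨α, PresheafOfModules.Derivation.ext ?_, fun β hβ => huniq β (PresheafOfModules.Derivation.ext ?_)⟩
  · funext W
    exact congrArg (fun k : OmegaSh.Der f F => k.d (X := W)) hα
  · funext W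
    exact congrArg (fun k : OmegaSh.Der (FrobSch.relFrob f p) F => k.d (X := W)) hβ

end Groth.Agent.FrobSchLib
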