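import Groth.Agent.FrobSchLib.Basic
import Groth.Agent.FrobAlgLib.Syn

/-!
The relative Frobenius of a morphism smooth of relative dimension `d` is syntomic.
-/

set_option autoImplicit false
set_option backward.isDefEq.respectTransparency false
set_option backward.isDefEq.respectTransparency.types false

universe u

open CategoryTheory CategoryTheory.Limits AlgebraicGeometry

namespace Groth.Agent.FrobSchLib

theorem isSyntomicMor_relFrob (p : ℕ) [Fact p.Prime] {X S : Scheme.{u}} [FrobSch.IsCharP S p] (f : X ⟶ S) (d : ℕ)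
    [SmoothOfRelativeDimension d f] : Synt.IsSyntomicMor (FrobSch.relFrob f p) := by
  intro x
  haveI : FrobSch.IsCharP X p := FrobSch.IsCharP.of_hom f p
  obtain ⟨V, hV, U, hU, hx, e, hstd⟩ :=
    SmoothOfRelativeDimension.exists_isStandardSmoothOfRelativeDimension (n := d) (f := f) x
  let pr₁ := pullback.fst f (FrobSch.frob S p)
  let pr₂ := pullback.snd f (FrobSch.frob S p)
  let P : (FrobSch.frobTwist f p).Opens := pr₁ ⁻¹ᵁ U ⊓ pr₂ ⁻¹ᵁ V
  have H := IsPullback.of_hasPullback f (FrobSch.frob S p)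
  have hP : IsAffineOpen P := by
    haveI : IsAffine U.toScheme := hU
    haveI : IsAffine V.toScheme := hV
    exact .of_isIso (Scheme.Hom.isPullback_resLE H (US := V) (UT := V) (UX := U) le_rfl e rfl).isoPullback.hom
  have eU : U ≤ FrobSch.relFrob f p ⁻¹ᵁ P := fun y hy =>
    ⟨show pr₁ (FrobSch.relFrob f p y) ∈ U by
      rw [← Scheme.Hom.comp_apply, FrobSch.relFrob_fst, FrobSch.frob_apply]; exact hy,
     show pr₂ (FrobSch.relFrob f p y) ∈ V by
      rw [← Scheme.Hom.comp_apply, FrobSch.relFrob_snd]; exact e hy⟩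
  refine ⟨⟨U, hU⟩, ⟨P, hP⟩, eU, hx, ?_⟩
  have sq := (isIso_pushoutSection_iff H (US := V) (UT := V) (UX := U) le_rfl e rfl).1
    (isIso_pushoutSection_of_isAffineOpen H le_rfl e rfl hV hV hU)
  haveI : Nonempty V := ⟨⟨f x, e hx⟩⟩
  haveI : Nonempty U := ⟨⟨x, hx⟩⟩
  haveI : CharP Γ(S, V) p := (CharP.charP_iff_prime_eq_zero Fact.out).2 (FrobSch.natCast_eq_zero_app S p V)
  haveI : CharP Γ(X, U) p := (CharP.charP_iff_prime_eq_zero Fact.out).2 (FrobSch.natCast_eq_zero_app X p U)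
  letI : Algebra Γ(S, V) Γ(X, U) := (f.appLE V U e).hom.toAlgebra
  obtain ⟨g, hgC, hget⟩ := RingHom.IsStandardSmoothOfRelativeDimension.exists_etale_mvPolynomial hstd
  letI : Algebra (MvPolynomial (Fin d) Γ(S, V)) Γ(X, U) := g.toAlgebra
  haveI : IsScalarTower Γ(S, V) (MvPolynomial (Fin d) Γ(S, V)) Γ(X, U) := IsScalarTower.of_algebraMap_eq' hgC.symm
  haveI : Algebra.Etale (MvPolynomial (Fin d) Γ(S, V)) Γ(X, U) := hget
  have hfrobS : (FrobSch.frob S p).appLE V V le_rfl = FrobAlgLib.frobC p Γ(S, V) := by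
    ext a
    change S.presheaf.map (homOfLE (le_refl V)).op (a ^ p) = a ^ p
    simp
  have hf : f.appLE V U e = FrobAlgLib.alg Γ(S, V) Γ(X, U) := rfl
  simp only [hfrobS, hf] at sq
  refine FrobAlgLib.isSyntomic_of_isPushout (A := Γ(S, V)) (B := Γ(X, U)) p d sq ((FrobSch.relFrob f p).appLE P U eU) ?_ ?_
  · rw [Scheme.Hom.appLE_comp_appLE]
    have key : ∀ (h : X ⟶ X) (_ : h = FrobSch.frob X p) (e' : U ≤ h ⁻¹ᵁ U),
        h.appLE U U e' = FrobAlgLib.frobC p Γ(X, U) := by
      rintro h rfl e'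
      ext a
      change X.presheaf.map (homOfLE (le_refl U)).op (a ^ p) = a ^ p
      simp
    exact key _ (FrobSch.relFrob_fst f p) _
  · rw [Scheme.Hom.appLE_comp_appLE]
    have key : ∀ (h : X ⟶ S) (_ : h = f) (e' : U ≤ h ⁻¹ᵁ V), h.appLE V U e' = f.appLE V U e := by
      rintro h rfl e'
      rfl
    exact key _ (FrobSch.relFrob_snd f p) _

end Groth.Agent.FrobSchLib
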